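import Cfsg.Agent.H131.M11J4
import Cfsg.Agent.H132.S5.Main

/-!
# The strong row of `J₄`, `p = 11` (for S2274)

`c` is conjugate to `c²`, `a` is conjugate to `a⁸`; so every element of order 11 is conjugate to `c` or to `a`.
`c * (x a x⁻¹)` has order 37, and no element of order 37 commutes with an element of order 11.
The word of the element `m` (in `x, y, y⁻¹, t`) was found by a search for coincidences in the orbit of the fixed space of `c`.
-/

set_option autoImplicit false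
set_option Elab.async false
set_option maxRecDepth 20000

namespace Cfsg.Agent.H199.S5.JFour

open Cfsg.Agent.Lib Cfsg.Agent.Lib.F2MatGroup Cfsg.Agent.J4.Rep112 Cfsg.Agent.H935.J4Max.Eval
open Cfsg.Agent.H935.J4Max.M22Fin (E_nil E_cons E_append E_two E_three)
open Subgroup Cfsg.Agent.H533.T5 Cfsg.Agent.H132.S5 Cfsg.Agent.H131.M11J4 Cfsg.Agent.H461.T5

universe u

/-- the word of `m` -/
def M : List ℕ := [28, 30, 28, 31, 29, 28, 31, 29, 28, 31, 30, 31, 29, 31, 30, 31, 29, 31, 29, 28, 30, 31, 29, 28, 29, 28, 31,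
  28, 30, 31, 30, 28, 30, 28, 29, 31, 29, 31, 30, 31, 29, 31, 28, 30, 31, 28, 30, 31, 28, 29, 28, 30, 28, 24, 4, 24]

def es2 : List (List ℕ × List ℕ) := [(M ++ [14], List.replicate 2 14 ++ M),
  (M ++ [16], List.replicate 8 16 ++ (List.replicate 9 14 ++ M)), ([28, 28], []),
  ((List.replicate 37 [14, 28, 16, 28]).flatten, [])]

def ns2 : List (List ℕ × List ℕ) := [([14, 28, 16, 28], [])]

theorem chk2 : check 112 codes ws es2 ns2 = true := by decide +kernel

theorem get_es2 {u v : List ℕ} (i : ℕ) (hi : es2[i]? = some (u, v)) : E ws u = E ws v :=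
  (check_J chk2).1 (u, v) (List.mem_of_getElem? hi)

/-- the element `m` -/
noncomputable def m : Cfsg.Spor.J4 := E ws M

/-- the element `x` -/
noncomputable def x0 : Cfsg.Spor.J4 := E ws [28]

theorem mc : m * c * m⁻¹ = c ^ 2 := by
  have h := get_es2 (u := M ++ [14]) (v := List.replicate 2 14 ++ M) 0 rfl
  rw [E_append, E_append, E_rep] at h
  rw [mul_inv_eq_iff_eq_mul]
  exact h

theorem ma : m * a * m⁻¹ = a ^ 8 * c ^ 9 := by
  have h := get_es2 (u := M ++ [16]) (v := List.replicate 8 16 ++ (List.replicate 9 14 ++ M)) 1 rfl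
  rw [E_append, E_append, E_append, E_rep, E_rep, ← mul_assoc] at h
  rw [mul_inv_eq_iff_eq_mul]
  exact h

theorem x0_inv : x0⁻¹ = x0 := by
  have h := get_es2 (u := [28, 28]) (v := []) 2 rfl
  rw [E_two, E_nil] at h
  exact (eq_inv_of_mul_eq_one_left h).symm

theorem E_flat (w : List ℕ) (n : ℕ) : E ws (List.replicate n w).flatten = E ws w ^ n := by
  induction n with
  | zero => rw [List.replicate_zero, List.flatten_nil, E_nil, pow_zero]
  | succ n ih => rw [List.replicate_succ, List.flatten_cons, E_append, ih, pow_succ']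

theorem prod_eq : c * (x0 * a * x0⁻¹) = E ws [14, 28, 16, 28] := by
  rw [x0_inv, E_cons, E_cons ws 28, E_two]
  simp only [mul_assoc]
  rfl

theorem prod_pow : (c * (x0 * a * x0⁻¹)) ^ 37 = 1 := by
  have h := get_es2 (u := (List.replicate 37 [14, 28, 16, 28]).flatten) (v := []) 3 rfl
  rw [E_flat, E_nil] at h
  rw [prod_eq]
  exact h

theorem prod_ne : c * (x0 * a * x0⁻¹) ≠ 1 := by
  have h := (check_J chk2).2 ([14, 28, 16, 28], []) (by simp [ns2])
  rw [E_nil] at h
  rw [prod_eq]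
  exact h

theorem order_c : orderOf c = 11 := by
  have : Fact (Nat.Prime 11) := ⟨by norm_num⟩
  exact orderOf_eq_prime c_pow c_ne

/-! ### rational elements -/

theorem isConj_pow {G : Type*} [Group G] {r s : G} (h : IsConj r s) (n : ℕ) : IsConj (r ^ n) (s ^ n) := by
  obtain ⟨g, hg⟩ := isConj_iff.1 h
  exact isConj_iff.2 ⟨g, by rw [← hg, conj_pow]⟩

theorem isConj_of_root {G : Type*} [Group G] {p : ℕ} {r : G} (hr : r ^ p = 1) {g : ℕ} (h : IsConj r (r ^ g))
    {n k : ℕ} (hn : n ≡ g ^ k [MOD p]) : IsConj r (r ^ n) := by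
  have h1 : ∀ k : ℕ, IsConj r (r ^ g ^ k) := by
    intro k
    induction k with
    | zero => rw [pow_zero, pow_one]
    | succ k ih =>
      have h2 := isConj_pow h (g ^ k)
      rw [← pow_mul, ← pow_succ'] at h2
      exact ih.trans h2
  rw [pow_eq_of_modEq hr hn]
  exact h1 k

theorem root_two {n : ℕ} (hn : ¬ 11 ∣ n) : ∃ k, n ≡ 2 ^ k [MOD 11] := by
  have h1 : n % 11 < 11 := Nat.mod_lt _ (by norm_num)
  have h2 : ∀ r < 11, r ≠ 0 → ∃ k, r ≡ 2 ^ k [MOD 11] := by
    intro r hr h0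
    have h3 : r = 1 ∨ r = 2 ∨ r = 3 ∨ r = 4 ∨ r = 5 ∨ r = 6 ∨ r = 7 ∨ r = 8 ∨ r = 9 ∨ r = 10 := by omega
    rcases h3 with rfl | rfl | rfl | rfl | rfl | rfl | rfl | rfl | rfl | rfl
    · exact ⟨0, by decide⟩
    · exact ⟨1, by decide⟩
    · exact ⟨8, by decide⟩
    · exact ⟨2, by decide⟩
    · exact ⟨4, by decide⟩
    · exact ⟨9, by decide⟩
    · exact ⟨7, by decide⟩
    · exact ⟨3, by decide⟩
    · exact ⟨6, by decide⟩
    · exact ⟨5, by decide⟩
  obtain ⟨k, hk⟩ := h2 _ h1 (fun h => hn (Nat.dvd_of_mod_eq_zero h))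
  exact ⟨k, (Nat.mod_modEq n 11).symm.trans hk⟩

theorem root_eight {n : ℕ} (hn : ¬ 11 ∣ n) : ∃ k, n ≡ 8 ^ k [MOD 11] := by
  obtain ⟨k, hk⟩ := root_two hn
  refine ⟨7 * k, hk.trans ?_⟩
  rw [pow_mul]
  exact Nat.ModEq.pow k (by decide)

/-- **all powers of `c` are conjugate** -/
theorem conj_c {n : ℕ} (hn : ¬ 11 ∣ n) : IsConj c (c ^ n) := by
  obtain ⟨k, hk⟩ := root_two hn
  exact isConj_of_root c_pow (isConj_iff.2 ⟨m, mc⟩) hk

/-- a power of `a` times a power of `c` -/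
theorem conj_ac {k : ℕ} (hk : ¬ 11 ∣ k) (j : ℕ) : IsConj (a ^ k) (a ^ k * c ^ j) := by
  obtain ⟨M, -, hM⟩ := exists_mul_modEq (by norm_num) hk j
  refine isConj_iff.2 ⟨(b ^ M)⁻¹, ?_⟩
  rw [inv_inv, conj_a bc ac ab, pow_eq_of_modEq c_pow hM]

/-- **all powers of `a` are conjugate** -/
theorem conj_aa {n : ℕ} (hn : ¬ 11 ∣ n) : IsConj a (a ^ n) := by
  obtain ⟨k, hk⟩ := root_eight hn
  have h1 : IsConj a (a ^ 8 * c ^ 9) := isConj_iff.2 ⟨m, ma⟩
  exact isConj_of_root a_pow (h1.trans (conj_ac (by norm_num) 9).symm) hk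

theorem not_four : ¬ 11 ^ 4 ∣ Nat.card Cfsg.Spor.J4 := by
  rw [Cfsg.Agent.H131.T5J4.card_J4_eq]
  norm_num

/-- **the two classes** -/
theorem classes {z : Cfsg.Spor.J4} (hz : orderOf z = 11) : IsConj c z ∨ IsConj a z := by
  have hp : Fact (Nat.Prime 11) := ⟨by norm_num⟩
  obtain ⟨Q, hQ, haQ, hbQ⟩ := Cfsg.Agent.H573.exists_pgroup_of_class_two (p := 11) (a := a) (b := b) (c := c) (i := 1) (j := 1)
    (k := 1) (by rw [pow_one, a_pow]) (by rw [pow_one, b_pow]) (by rw [pow_one, c_pow]) ac bc ab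
  have hle : closure ({a, b} : Set Cfsg.Spor.J4) ≤ Q := by
    rw [closure_le]
    rintro z (rfl | rfl)
    · exact haQ
    · exact hbQ
  have hP : IsPGroup 11 (closure ({a, b} : Set Cfsg.Spor.J4)) := hQ.to_le hle
  have hidx : ¬ 11 ∣ (closure ({a, b} : Set Cfsg.Spor.J4)).index := by
    intro hd
    obtain ⟨n, hn⟩ := IsPGroup.iff_card.1 hP
    have hn3 : 3 ≤ n := by
      by_contra hlt
      have hcomm : ∀ u v : closure ({a, b} : Set Cfsg.Spor.J4), u * v = v * u := by
        have hn2 : n ≤ 2 := by omega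
        interval_cases n
        · have h1 : Subsingleton (closure ({a, b} : Set Cfsg.Spor.J4)) := (Nat.card_eq_one_iff_unique.1 (by simpa using hn)).1
          exact fun u v => Subsingleton.elim _ _
        · have h1 : IsCyclic (closure ({a, b} : Set Cfsg.Spor.J4)) := isCyclic_of_prime_card (p := 11) (by simpa using hn)
          let _ := IsCyclic.commGroup (α := (closure ({a, b} : Set Cfsg.Spor.J4)))
          exact fun u v => mul_comm u v
        · exact fun u v => (IsPGroup.isMulCommutative_of_card_eq_prime_sq hn).1.1 u v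
      have h1 := congrArg Subtype.val (hcomm ⟨a, subset_closure (by simp)⟩ ⟨b, subset_closure (by simp)⟩)
      change a * b = b * a at h1
      rw [ab] at h1
      exact c_ne (mul_eq_left.1 h1)
    apply not_four
    rw [← Subgroup.card_mul_index (closure ({a, b} : Set Cfsg.Spor.J4)), hn]
    calc 11 ^ 4 = 11 ^ 3 * 11 := by rw [pow_succ]
      _ ∣ 11 ^ n * (closure ({a, b} : Set Cfsg.Spor.J4)).index := Nat.mul_dvd_mul (pow_dvd_pow 11 hn3) hd
  obtain ⟨g, hg⟩ := Cfsg.Agent.H533.T5.exists_conj_mem_of_index hidx hz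
  have hne : g * z * g⁻¹ ≠ 1 := by
    intro h
    have h1 : z = 1 := by
      have h2 : z = g⁻¹ * (g * z * g⁻¹) * g := by group
      rw [h2, h]
      group
    rw [h1, orderOf_one] at hz
    exact absurd hz (by norm_num)
  obtain ⟨r, hr, u, n, hn, h⟩ := exists_rep (p := 11) (by norm_num) a_pow c_pow bc ac ab b_pow hg hne
  have hzr : IsConj (r ^ n) z := by
    refine isConj_iff.2 ⟨g⁻¹ * u, ?_⟩
    calc g⁻¹ * u * r ^ n * (g⁻¹ * u)⁻¹ = g⁻¹ * (u * r ^ n * u⁻¹) * g := by group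
      _ = z := by rw [← h]; group
  rcases hr with rfl | rfl | ⟨t, ht, rfl⟩
  · exact Or.inl ((conj_c hn).trans hzr)
  · exact Or.inr ((conj_aa hn).trans hzr)
  · right
    obtain ⟨m', k, j, hk, h1⟩ := fused t ht
    have h2 : IsConj (a ^ t * b) (a ^ k) := by
      refine IsConj.trans (isConj_iff.2 ⟨m', ?_⟩) (conj_ac hk j).symm
      rw [mul_inv_eq_iff_eq_mul]; exact h1
    have h3 : IsConj (a ^ (k * n)) ((a ^ t * b) ^ n) := by
      have := (isConj_pow h2 n).symm
      rwa [← pow_mul] at this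
    have h4 : ¬ 11 ∣ k * n := by
      intro h5
      rcases (Nat.Prime.dvd_mul (by norm_num)).1 h5 with h6 | h6
      · exact hk h6
      · exact hn h6
    exact ((conj_aa h4).trans h3).trans hzr

/-- **the group generated by `c` and `x a x⁻¹` is not solvable** -/
theorem not_solvable : ¬ Group.IsSolvable ↥(closure ({c, x0 * a * x0⁻¹} : Set Cfsg.Spor.J4)) := by
  intro hs
  have h11 : Fact (Nat.Prime 11) := ⟨by norm_num⟩
  have h37 : Fact (Nat.Prime 37) := ⟨by norm_num⟩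
  obtain ⟨-, -, -, h2, h1, h3⟩ := Cfsg.Agent.H131.T5J4.mem_primes (q := 37) (by norm_num)
  let H := closure ({c, x0 * a * x0⁻¹} : Set Cfsg.Spor.J4)
  have hcH : c ∈ H := subset_closure (by simp)
  have hpH : c * (x0 * a * x0⁻¹) ∈ H := mul_mem hcH (subset_closure (by simp))
  have ho : orderOf (c * (x0 * a * x0⁻¹)) = 37 := orderOf_eq_prime prod_pow prod_ne
  have hd : 37 ∣ Nat.card ↥H := by
    have := orderOf_dvd_natCard (⟨_, hpH⟩ : ↥H)
    rwa [Subgroup.orderOf_mk, ho] at this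
  have hd11 : 11 ∣ Nat.card ↥H := by
    have := orderOf_dvd_natCard (⟨_, hcH⟩ : ↥H)
    rwa [Subgroup.orderOf_mk, order_c] at this
  obtain ⟨T, s, hs37, hT, hTi, hTs⟩ := Cfsg.Agent.H131.T5.exists_commuting (R := ↥H) (p := 11) (q := 37) hs hd
    (fun h => not_four (h.trans (Subgroup.card_subgroup_dvd_card _))) h1
    (fun h => h2 (h.trans (Subgroup.card_subgroup_dvd_card _))) h3
  have hT11 : 11 ∣ Nat.card ↥T := by
    have h4 := Subgroup.card_mul_index T
    rw [← h4] at hd11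
    rcases (Nat.Prime.dvd_mul h11.out).1 hd11 with h5 | h5
    · exact h5
    · exact absurd h5 hTi
  obtain ⟨t, ht⟩ := exists_prime_orderOf_dvd_card' 11 hT11
  have hto : orderOf (((t : ↥H) : Cfsg.Spor.J4)) = 11 := by rw [Subgroup.orderOf_coe, Subgroup.orderOf_coe, ht]
  refine Cfsg.Agent.H131.T5J4.not_dvd hto (q := 37) (by norm_num) ?_
  have h6 : (s : Cfsg.Spor.J4) * ((t : ↥H) : Cfsg.Spor.J4) = ((t : ↥H) : Cfsg.Spor.J4) * s :=
    (congrArg Subtype.val (hTs _ t.2)).symm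
  have h7 := orderOf_dvd_natCard (⟨(s : Cfsg.Spor.J4), mem_centralizer_singleton_iff.2 h6⟩ :
    ↥(centralizer ({((t : ↥H) : Cfsg.Spor.J4)} : Set Cfsg.Spor.J4)))
  rwa [Subgroup.orderOf_mk, Subgroup.orderOf_coe, hs37] at h7

/-- **`c` and `a` are a strong pair** -/
theorem spair_ca : SPair 11 (⊤ : Subgroup Cfsg.Spor.J4) c a := by
  have h37 : Fact (Nat.Prime 37) := ⟨by norm_num⟩
  have ho : orderOf (c * (x0 * a * x0⁻¹)) = 37 := orderOf_eq_prime prod_pow prod_ne
  refine ⟨⟨x0, mem_top _, not_solvable⟩, ⟨x0, mem_top _, ?_⟩⟩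
  rintro ⟨k, hk⟩
  rw [ho] at hk
  have h1 : 37 ∣ 11 := (Nat.Prime.dvd_of_dvd_pow (n := k) (by norm_num) (by rw [← hk]))
  exact absurd h1 (by norm_num)

theorem spair_of_isConj {G : Type*} [Group G] {p : ℕ} {x x' y y' : G} (hx : IsConj x x') (hy : IsConj y y')
    (h : SPair p (⊤ : Subgroup G) x y) : SPair p (⊤ : Subgroup G) x' y' := by
  obtain ⟨g, hg⟩ := isConj_iff.1 hx.symm
  obtain ⟨k, hk⟩ := isConj_iff.1 hy.symm
  refine SPair.conj_left (mem_top g) (SPair.conj_right (mem_top k) ?_)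
  rw [hg, hk]
  exact h

theorem isConj_of_equiv {G H : Type*} [Group G] [Group H] (e : G ≃* H) {x y : G} (h : IsConj (e x) (e y)) : IsConj x y := by
  obtain ⟨g, hg⟩ := isConj_iff.1 h
  refine isConj_iff.2 ⟨e.symm g, e.injective ?_⟩
  simpa using hg

/-- **The strong row of `J₄`, `p = 11`.** -/
theorem srow_j4 (B : SBox.{u} 11) {K : Type u} [Group K] [Finite K] [IsSimpleGroup K] (hna : ¬ IsMulCommutative K)
    (h : Cfsg.Spor.IsoJ4 K) : SRow 11 K := by
  have hp : Fact (Nat.Prime 11) := ⟨by norm_num⟩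
  obtain ⟨hfin, hsim, ⟨F⟩⟩ := Cfsg.Agent.KFacts.J4.Base.exists_full h
  obtain ⟨e⟩ := h
  refine SRow.of_inner hna (fun a _ => ?_) (fun x y hx hy => ?_)
  · obtain ⟨p, hp⟩ := Cfsg.Agent.KFacts.J4.SheetJ4.inner F a
    exact ⟨p, hp.symm⟩
  · have same : IsConj x y → SPair 11 (⊤ : Subgroup K) x y := by
      intro hc
      obtain ⟨g, hg⟩ := isConj_iff.1 hc.symm
      exact SPair.mk' (by norm_num) (apair_of_isConj_zpow B.rs (by norm_num) hna hx (s := g) (j := 1)
        (by rw [zpow_one, hg])) (bpair_of_isConj B.aa (by norm_num) hna hx hc)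
    have hx' : orderOf (e x) = 11 := by rw [MulEquiv.orderOf_eq, hx]
    have hy' : orderOf (e y) = 11 := by rw [MulEquiv.orderOf_eq, hy]
    have trans : ∀ {x y : K}, SPair 11 (⊤ : Subgroup Cfsg.Spor.J4) (e x) (e y) → SPair 11 (⊤ : Subgroup K) x y := by
      intro x y hs
      refine SPair.of_hom (by norm_num) e.toMonoidHom (T := ⊤) ?_ hs
      intro w _
      exact ⟨e.symm w, mem_top _, e.apply_symm_apply w⟩
    rcases classes hx' with h1 | h1 <;> rcases classes hy' with h2 | h2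
    · exact same (isConj_of_equiv e (h1.symm.trans h2))
    · exact trans (spair_of_isConj h1 h2 spair_ca)
    · exact (trans (spair_of_isConj h2 h1 spair_ca)).symm
    · exact same (isConj_of_equiv e (h1.symm.trans h2))

end Cfsg.Agent.H199.S5.JFour
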