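import Cfsg.Agent.H132.S5.Pairs
import Cfsg.Agent.PLocal.SL2Natural
import Cfsg.Agent.Classification.NGroupExclude

/-!
# Opposite transvections (for S2274)

`w`, `w₁` commuting elements of prime order `p ≥ 5`; `X` centralises `w` and maps `w₁` to `w₁ w ^ m`, `V` centralises `w₁` and
maps `w` to `w w₁ ^ n`, `p ∤ m, n`.  Then `⟨X, V⟩` is not solvable and `X V` is not a `p`-element.
-/

set_option autoImplicit false

namespace Cfsg.Agent.H199.S5

open Matrix (SpecialLinearGroup)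
open Subgroup Cfsg.Agent.PLocal.SL2Natural Cfsg.Agent.H533.T5 Cfsg.Agent.H132.S5

variable {K : Type*} [Group K] {p : ℕ} [hp : Fact p.Prime] {w w1 X V : K}

/-- the powers with exponents modulo `p` -/
def pw (w : K) (a : ZMod p) : K := w ^ a.val

theorem pw_add (hw : w ^ p = 1) (a b : ZMod p) : pw w (a + b) = pw w a * pw w b := by
  have h1 : w ^ (a.val + b.val) = w ^ ((a.val + b.val) % p) := by
    conv_lhs => rw [← Nat.mod_add_div (a.val + b.val) p, pow_add, pow_mul, hw, one_pow, mul_one]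
  rw [pw, pw, pw, ← pow_add, ZMod.val_add, ← h1]

theorem pw_natCast (hw : w ^ p = 1) (n : ℕ) : pw w (n : ZMod p) = w ^ n := by
  rw [pw, ZMod.val_natCast]
  conv_rhs => rw [← Nat.mod_add_div n p, pow_add, pow_mul, hw, one_pow, mul_one]

theorem pw_zero : pw w (0 : ZMod p) = 1 := by rw [pw, ZMod.val_zero, pow_zero]

theorem pw_intCast (hw : w ^ p = 1) (n : ℤ) : pw w (n : ZMod p) = w ^ n := by
  have h1 : (n : ZMod p) = ((n % p).toNat : ZMod p) := by
    have h2 : ((n % p).toNat : ℤ) = n % p := Int.toNat_of_nonneg (Int.emod_nonneg _ (by exact_mod_cast hp.out.ne_zero))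
    have h3 : (((n % p).toNat : ℤ) : ZMod p) = ((n % p : ℤ) : ZMod p) := by rw [h2]
    rw [Int.cast_natCast] at h3
    rw [h3]
    exact (ZMod.intCast_mod n p).symm
  rw [h1, pw_natCast hw, ← zpow_natCast, Int.toNat_of_nonneg (Int.emod_nonneg _ (by exact_mod_cast hp.out.ne_zero))]
  conv_rhs => rw [← Int.emod_add_mul_ediv n p, zpow_add, zpow_mul, zpow_natCast w p, hw, one_zpow, mul_one]

theorem pw_mul (hw : w ^ p = 1) (a b : ZMod p) : pw w (a * b) = (pw w a) ^ b.val := by
  rw [pw, pw, ← pow_mul, ZMod.val_mul]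
  conv_rhs => rw [← Nat.mod_add_div (a.val * b.val) p, pow_add, pow_mul, hw, one_pow, mul_one]

/-- the element of `⟨w, w₁⟩` with coordinates `a`, `b` -/
def el (w w1 : K) (a b : ZMod p) : K := pw w a * pw w1 b

/-- the pairs `(g, M)` such that `g` acts on `⟨w, w₁⟩` as `M` -/
def S (w w1 : K) (p : ℕ) [Fact p.Prime] : Subgroup (K × SpecialLinearGroup (Fin 2) (ZMod p)) where
  carrier := {x | ∀ a b : ZMod p, x.1 * el w w1 a b * x.1⁻¹ =
    el w w1 (mat x.2 0 0 * a + mat x.2 0 1 * b) (mat x.2 1 0 * a + mat x.2 1 1 * b)}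
  one_mem' := by
    intro a b
    have h : mat (1 : SpecialLinearGroup (Fin 2) (ZMod p)) = 1 := rfl
    simp [h]
  mul_mem' := by
    intro x y hx hy a b
    have h1 : (x * y).1 * el w w1 a b * (x * y).1⁻¹ = x.1 * (y.1 * el w w1 a b * y.1⁻¹) * x.1⁻¹ := by
      rw [Prod.fst_mul]; group
    rw [h1, hy a b, hx, Prod.snd_mul, mat_mul]
    congr 1
    · simp only [Matrix.mul_apply, Fin.sum_univ_two]; ring
    · simp only [Matrix.mul_apply, Fin.sum_univ_two]; ring
  inv_mem' := by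
    intro x hx a b
    have hdet : mat x.2 0 0 * mat x.2 1 1 - mat x.2 0 1 * mat x.2 1 0 = 1 := by
      have := det_mat x.2
      rwa [Matrix.det_fin_two] at this
    have hinv : mat x.2⁻¹ = !![mat x.2 1 1, -mat x.2 0 1; -mat x.2 1 0, mat x.2 0 0] := by
      have h1 : mat x.2⁻¹ = (mat x.2).adjugate := rfl
      rw [h1, Matrix.adjugate_fin_two]
    have h1 := hx (mat x.2 1 1 * a - mat x.2 0 1 * b) (-(mat x.2 1 0 * a) + mat x.2 0 0 * b)
    have e1 : mat x.2 0 0 * (mat x.2 1 1 * a - mat x.2 0 1 * b) + mat x.2 0 1 * (-(mat x.2 1 0 * a) + mat x.2 0 0 * b) = a := by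
      linear_combination a * hdet
    have e2 : mat x.2 1 0 * (mat x.2 1 1 * a - mat x.2 0 1 * b) + mat x.2 1 1 * (-(mat x.2 1 0 * a) + mat x.2 0 0 * b) = b := by
      linear_combination b * hdet
    rw [e1, e2] at h1
    rw [← h1, Prod.fst_inv, Prod.snd_inv, hinv]
    have e3 : x.1⁻¹ * (x.1 * el w w1 (mat x.2 1 1 * a - mat x.2 0 1 * b) (-(mat x.2 1 0 * a) + mat x.2 0 0 * b) * x.1⁻¹) *
      x.1⁻¹⁻¹ = el w w1 (mat x.2 1 1 * a - mat x.2 0 1 * b) (-(mat x.2 1 0 * a) + mat x.2 0 0 * b) := by group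
    rw [e3]
    congr 1
    · simp; ring
    · simp

theorem mem_S {x : K × SpecialLinearGroup (Fin 2) (ZMod p)} : x ∈ S w w1 p ↔ ∀ a b : ZMod p, x.1 * el w w1 a b * x.1⁻¹ =
    el w w1 (mat x.2 0 0 * a + mat x.2 0 1 * b) (mat x.2 1 0 * a + mat x.2 1 1 * b) := Iff.rfl

/-- the hypotheses -/
structure Opp (p : ℕ) (w w1 X V : K) (m n : ZMod p) : Prop where
  wo : orderOf w = p
  w1o : w1 ^ p = 1
  comm : w * w1 = w1 * w
  m0 : m ≠ 0
  n0 : n ≠ 0
  xw : X * w = w * X
  xw1 : X * w1 * X⁻¹ = w1 * pw w m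
  vw1 : V * w1 = w1 * V
  vw : V * w * V⁻¹ = w * pw w1 n

namespace Opp

variable {m n : ZMod p}

omit hp in
theorem wp (h : Opp p w w1 X V m n) : w ^ p = 1 := by rw [← h.wo, pow_orderOf_eq_one]

theorem x_mem (h : Opp p w w1 X V m n) : ((X, up m) : K × SpecialLinearGroup (Fin 2) (ZMod p)) ∈ S w w1 p := by
  intro a b
  have hc : Commute w w1 := h.comm
  have e1 : X * el w w1 a b * X⁻¹ = (X * w * X⁻¹) ^ a.val * (X * w1 * X⁻¹) ^ b.val := by
    rw [el, pw, pw, conj_pow, conj_pow]; group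
  have e2 : X * w * X⁻¹ = w := by rw [h.xw, mul_inv_cancel_right]
  have hc2 : Commute w1 (pw w m) := (hc.symm).pow_right _
  have e3 : (w1 * pw w m) ^ b.val = pw w (m * b) * pw w1 b := by
    rw [hc2.mul_pow, pw_mul h.wp]
    exact ((hc2.pow_left _).pow_right _).eq
  change X * el w w1 a b * X⁻¹ = el w w1 (1 * a + m * b) (0 * a + 1 * b)
  rw [e1, e2, h.xw1, e3, one_mul, zero_mul, zero_add, one_mul, el, pw_add h.wp, pw, mul_assoc]
  rfl

theorem v_mem (h : Opp p w w1 X V m n) : ((V, lo n) : K × SpecialLinearGroup (Fin 2) (ZMod p)) ∈ S w w1 p := by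
  intro a b
  have hc : Commute w w1 := h.comm
  have e1 : V * el w w1 a b * V⁻¹ = (V * w * V⁻¹) ^ a.val * (V * w1 * V⁻¹) ^ b.val := by
    rw [el, pw, pw, conj_pow, conj_pow]; group
  have e2 : V * w1 * V⁻¹ = w1 := by rw [h.vw1, mul_inv_cancel_right]
  have hc2 : Commute w (pw w1 n) := hc.pow_right _
  have e3 : (w * pw w1 n) ^ a.val = pw w a * pw w1 (n * a) := by
    rw [hc2.mul_pow, pw_mul h.w1o]
    rfl
  change V * el w w1 a b * V⁻¹ = el w w1 (1 * a + 0 * b) (n * a + 1 * b)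
  rw [e1, e2, h.vw, e3, one_mul, zero_mul, add_zero, one_mul, el, pw_add h.w1o, mul_assoc]
  rfl

theorem el_inj (h : Opp p w w1 X V m n) {a b : ZMod p} (hab : el w w1 a b = 1) : a = 0 ∧ b = 0 := by
  have h1 := h.x_mem a b
  change X * el w w1 a b * X⁻¹ = el w w1 (1 * a + m * b) (0 * a + 1 * b) at h1
  rw [hab, mul_one, mul_inv_cancel, one_mul, zero_mul, zero_add, one_mul] at h1
  have key : ∀ c : ZMod p, pw w c = 1 → c = 0 := by
    intro c hc
    have h2 := orderOf_dvd_of_pow_eq_one (show w ^ c.val = 1 from hc)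
    rw [h.wo] at h2
    exact (ZMod.val_eq_zero c).1 (Nat.eq_zero_of_dvd_of_lt h2 (ZMod.val_lt c))
  have hb : b = 0 := by
    have h3 : pw w (a + m * b) * pw w1 b = pw w a * pw w1 b := by
      rw [el] at hab h1
      rw [hab, ← h1]
    have h4 := mul_right_cancel h3
    have h5 := pw_add h.wp a (m * b)
    rw [h4] at h5
    have h6 : pw w (m * b) = 1 := by
      have := mul_eq_left.1 h5.symm
      exact this
    rcases mul_eq_zero.1 (key _ h6) with h7 | h7
    · exact absurd h7 h.m0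
    · exact h7
  refine ⟨?_, hb⟩
  rw [hb, el, pw_zero, mul_one] at hab
  exact key a hab

theorem el_eq (h : Opp p w w1 X V m n) {a b c d : ZMod p} (hab : el w w1 a b = el w w1 c d) : a = c ∧ b = d := by
  have hc : Commute w w1 := h.comm
  have h1 : el w w1 (a - c) (b - d) = 1 := by
    have e1 : pw w a = pw w (a - c) * pw w c := by rw [← pw_add h.wp, sub_add_cancel]
    have e2 : pw w1 b = pw w1 d * pw w1 (b - d) := by rw [← pw_add h.w1o, add_sub_cancel]
    rw [el, el, e1, e2] at hab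
    have hc1 : Commute (pw w c) (pw w1 d) := (hc.pow_left _).pow_right _
    have h2 : pw w (a - c) * pw w c * (pw w1 d * pw w1 (b - d)) = (pw w (a - c) * (pw w c * pw w1 d)) * pw w1 (b - d) := by group
    have hc2 : Commute (pw w (a - c)) (pw w c * pw w1 d) :=
      (((Commute.refl w).pow_left _).pow_right _).mul_right ((hc.pow_left _).pow_right _)
    rw [h2, hc2.eq, mul_assoc] at hab
    exact mul_eq_left.1 hab
  obtain ⟨h2, h3⟩ := h.el_inj h1
  exact ⟨sub_eq_zero.1 h2, sub_eq_zero.1 h3⟩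

/-- the matrix is determined -/
theorem unique (h : Opp p w w1 X V m n) {M : SpecialLinearGroup (Fin 2) (ZMod p)}
    (hM : ((1 : K), M) ∈ S w w1 p) : M = 1 := by
  have h1 := hM 1 0
  have h2 := hM 0 1
  simp only [one_mul, inv_one, mul_one, mul_zero, add_zero, zero_add] at h1 h2
  obtain ⟨a1, a2⟩ := h.el_eq h1
  obtain ⟨b1, b2⟩ := h.el_eq h2
  apply mat_injective
  rw [mat_one]
  ext i j
  fin_cases i <;> fin_cases j
  · exact a1.symm
  · exact b1.symm
  · exact a2.symm
  · exact b2.symm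

omit hp in
theorem up_nsmul {R : Type*} [CommRing R] (x : R) (k : ℕ) : up x ^ k = up (k * x) := by
  induction k with
  | zero => rw [pow_zero, Nat.cast_zero, zero_mul, up_zero]
  | succ k ih => rw [pow_succ, ih, up_mul, Nat.cast_succ, add_mul, one_mul]

omit hp in
theorem lo_nsmul {R : Type*} [CommRing R] (x : R) (k : ℕ) : lo x ^ k = lo (k * x) := by
  induction k with
  | zero => rw [pow_zero, Nat.cast_zero, zero_mul, lo_zero]
  | succ k ih => rw [pow_succ, ih, lo_mul, Nat.cast_succ, add_mul, one_mul]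

theorem closure_top {m n : ZMod p} (hm : m ≠ 0) (hn : n ≠ 0) :
    Subgroup.closure ({up m, lo n} : Set (SpecialLinearGroup (Fin 2) (ZMod p))) = ⊤ := by
  rw [eq_top_iff, ← closure_eq_top p, closure_le]
  have h1 : (up 1 : SpecialLinearGroup (Fin 2) (ZMod p)) = up m ^ (m⁻¹).val := by
    rw [up_nsmul, ZMod.natCast_zmod_val, inv_mul_cancel₀ hm]
  have h2 : (lo 1 : SpecialLinearGroup (Fin 2) (ZMod p)) = lo n ^ (n⁻¹).val := by
    rw [lo_nsmul, ZMod.natCast_zmod_val, inv_mul_cancel₀ hn]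
  rintro x (rfl | rfl)
  · rw [h1]; exact pow_mem (subset_closure (by simp)) _
  · rw [h2]; exact pow_mem (subset_closure (by simp)) _

/-- **Part (a).** -/
theorem not_solvable (h : Opp p w w1 X V m n) (h5 : 5 ≤ p) : ¬ Group.IsSolvable ↥(closure ({X, V} : Set K)) := by
  intro hs
  let T : Subgroup (K × SpecialLinearGroup (Fin 2) (ZMod p)) := closure {(X, up m), (V, lo n)}
  have hT : T ≤ S w w1 p := by
    rw [closure_le]
    rintro x (rfl | rfl)
    · exact h.x_mem
    · exact h.v_mem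
  have h1 : T.map (MonoidHom.fst K _) = closure ({X, V} : Set K) := by
    rw [MonoidHom.map_closure]
    congr 1
    simp [Set.image_pair]
  have h2 : T.map (MonoidHom.snd K _) = ⊤ := by
    rw [MonoidHom.map_closure, ← closure_top h.m0 h.n0]
    congr 1
    simp [Set.image_pair]
  -- `T` embeds in `⟨X, V⟩`
  let f : ↥T →* ↥(closure ({X, V} : Set K)) := ((MonoidHom.fst K _).comp T.subtype).codRestrict _ (fun x => by
    rw [← h1]
    exact ⟨x, x.2, rfl⟩)
  have hf : Function.Injective f := by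
    rw [injective_iff_map_eq_one]
    intro x hx
    have h3 : (x : K × SpecialLinearGroup (Fin 2) (ZMod p)).1 = 1 := congrArg Subtype.val hx
    have h4 : ((1 : K), (x : K × SpecialLinearGroup (Fin 2) (ZMod p)).2) ∈ S w w1 p := by
      rw [← h3]; exact hT x.2
    have h5 := h.unique h4
    exact Subtype.ext (Prod.ext h3 h5)
  have hTs : Group.IsSolvable ↥T := Group.isSolvable_of_isSolvable_injective hf
  let g : ↥T →* SpecialLinearGroup (Fin 2) (ZMod p) := (MonoidHom.snd K _).comp T.subtype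
  have hg : Function.Surjective g := by
    intro y
    have : y ∈ T.map (MonoidHom.snd K _) := by rw [h2]; exact mem_top _
    obtain ⟨x, hx, rfl⟩ := this
    exact ⟨⟨x, hx⟩, rfl⟩
  have h3 : Group.IsSolvable (SpecialLinearGroup (Fin 2) (ZMod p)) := Group.isSolvable_of_surjective hg
  exact Cfsg.Agent.Classification.NGroupExclude.not_isSolvable_sl (ZMod p) (by rw [ZMod.card]; omega) h3

/-- a matrix of `SL₂(p)` with a trivial `p`-power has trace `2` -/
theorem trace_two {M : SpecialLinearGroup (Fin 2) (ZMod p)} {k : ℕ} (hM : M ^ p ^ k = 1) : mat M 0 0 + mat M 1 1 = 2 := by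
  have h1 : (mat M) ^ p ^ k = 1 := by rw [← mat_pow, hM, mat_one]
  have h2 : (mat M - 1) ^ p ^ k = 0 := by
    have h3 : (mat M - 1) ^ p ^ k = (mat M) ^ p ^ k - 1 ^ p ^ k :=
      sub_pow_char_pow_of_commute _ _ (Commute.one_right _)
    rw [h3, h1, one_pow, sub_self]
  have h3 : IsNilpotent (mat M - 1) := ⟨_, h2⟩
  have h4 : IsNilpotent (mat M - 1).trace := Matrix.isNilpotent_trace_of_isNilpotent h3
  have h5 := h4.eq_zero
  rw [Matrix.trace_fin_two] at h5
  simp at h5
  linear_combination h5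

/-- **Part (b).** -/
theorem not_pel (h : Opp p w w1 X V m n) (k : ℕ) : (X * V) ^ p ^ k ≠ 1 := by
  intro hk
  have h1 : ((X, up m) * (V, lo n) : K × SpecialLinearGroup (Fin 2) (ZMod p)) ^ p ^ k ∈ S w w1 p :=
    pow_mem (mul_mem h.x_mem h.v_mem) _
  have h2 : ((X, up m) * (V, lo n) : K × SpecialLinearGroup (Fin 2) (ZMod p)) ^ p ^ k = (1, (up m * lo n) ^ p ^ k) := by
    rw [Prod.mk_mul_mk, Prod.pow_mk, hk]
  rw [h2] at h1
  have h3 := trace_two (h.unique h1)
  rw [mat_mul, mat_up, mat_lo] at h3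
  simp [Matrix.mul_apply, Fin.sum_univ_two] at h3
  have h4 : m * n = 0 := by linear_combination h3
  rcases mul_eq_zero.1 h4 with h5 | h5
  · exact h.m0 h5
  · exact h.n0 h5

/-- **A strong pair.** -/
theorem spair (h : Opp p w w1 X V m n) (h5 : 5 ≤ p) : SPair p (⊤ : Subgroup K) X V := by
  refine SPair.mk' hp.out ⟨1, mem_top _, ?_⟩ ⟨1, mem_top _, fun k => ?_⟩
  · rw [one_mul, inv_one, mul_one]; exact h.not_solvable h5
  · rw [one_mul, inv_one, mul_one]; exact h.not_pel k

end Opp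

end Cfsg.Agent.H199.S5
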