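import Cfsg.Agent.H609.T5.MMidSeven
import Cfsg.Agent.H199.S5.Opp

/-!
# The strong row of the Monster, `p = 7` (for S2274)
-/

set_option autoImplicit false
set_option maxRecDepth 100000

namespace Cfsg.Agent.H199.S5

open Subgroup Cfsg Cfsg.Agent.H533.T5 Cfsg.Agent.H132.S5 Cfsg.Agent.H609.T5
open Cfsg.Agent.MonsterX Cfsg.Agent.MonsterX.InstData

/-- **Two good elements form a strong pair.** -/
theorem good_spair {K : Type*} [Group K] {w w1 a x y : K} (hwo : orderOf w = 7) (hww1 : w * w1 = w1 * w)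
    (haw : a * w * a⁻¹ = w1) (haw1 : a * w1 * a⁻¹ = w⁻¹) (hx : Seven.Good w w1 x)
    (hy : Seven.Good w w1 y) : SPair 7 (⊤ : Subgroup K) x y := by
  have h7 : Fact (Nat.Prime 7) := ⟨by norm_num⟩
  obtain ⟨k, m, hm, h1, h2⟩ := hx
  obtain ⟨l, n, hn, h3, h4⟩ := hy
  refine SPair.conj_left (mem_top k) (SPair.conj_right (mem_top (a * l)) ?_)
  have e : (a * l * y * (a * l)⁻¹) = a * (l * y * l⁻¹) * a⁻¹ := by group
  rw [e]
  generalize k * x * k⁻¹ = X at h1 h2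
  generalize l * y * l⁻¹ = Y at h3 h4
  have hw7 : w ^ 7 = 1 := by rw [← hwo, pow_orderOf_eq_one]
  have hw17 : w1 ^ 7 = 1 := by rw [← haw, conj_pow, hw7]; group
  refine (⟨hwo, hw17, hww1, ?_, ?_, h1, ?_, ?_, ?_⟩ : Opp 7 w w1 X (a * Y * a⁻¹) (m : ZMod 7) ((-n : ℤ) : ZMod 7)).spair (by norm_num)
  · intro h
    exact hm ((ZMod.intCast_zmod_eq_zero_iff_dvd m 7).1 h)
  · intro h
    rw [ZMod.intCast_zmod_eq_zero_iff_dvd] at h
    exact hn ((dvd_neg).1 h)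
  · rw [pw_intCast hw7]; exact h2
  · rw [← haw]
    calc a * Y * a⁻¹ * (a * w * a⁻¹) = a * (Y * w) * a⁻¹ := by group
      _ = a * w * a⁻¹ * (a * Y * a⁻¹) := by rw [h3]; group
  · rw [pw_intCast hw17]
    have e1 : w = a * w1⁻¹ * a⁻¹ := by
      have : a * w1⁻¹ * a⁻¹ = (a * w1 * a⁻¹)⁻¹ := by rw [conj_inv]
      rw [this, haw1, inv_inv]
    have e2 : a * w ^ (-n) * a⁻¹ = w1 ^ (-n) := by rw [← haw, conj_zpow]
    have e3 : Y * w1⁻¹ * Y⁻¹ = w1⁻¹ * w ^ (-n) := by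
      have : Y * w1⁻¹ * Y⁻¹ = (Y * w1 * Y⁻¹)⁻¹ := by rw [conj_inv]
      rw [this, h4, mul_inv_rev, ← zpow_neg]
      exact (((show Commute w w1 from hww1).zpow_left (-n)).inv_right).eq
    calc a * Y * a⁻¹ * w * (a * Y * a⁻¹)⁻¹ = a * Y * a⁻¹ * (a * w1⁻¹ * a⁻¹) * (a * Y * a⁻¹)⁻¹ := by rw [← e1]
      _ = a * (Y * w1⁻¹ * Y⁻¹) * a⁻¹ := by group
      _ = (a * w1⁻¹ * a⁻¹) * (a * w ^ (-n) * a⁻¹) := by rw [e3]; group
      _ = w * w1 ^ (-n) := by rw [← e1, e2]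

/-- the pairs of elements of order 7 of the model -/
theorem spair_seven_model {r s : ↥InstData.M.G} (hr : orderOf r = 7) (hs : orderOf s = 7) :
    SPair 7 (⊤ : Subgroup ↥InstData.M.G) r s := by
  have hfin := MFive.Row.finite_model
  have h7 : ¬ 7 ^ 7 ∣ Nat.card ↥InstData.M.G := by
    rw [H961.SevM.card_model]
    norm_num
  obtain ⟨y, v, s', a, c, w, hL, h5⟩ := H961.SevM.exists_data'
  obtain ⟨Q, hQ, -⟩ := H961.SevM.exists_qq hL h5
  obtain ⟨s1, hS⟩ := Seven.exists_sit hL hQ h5 h7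
  exact good_spair hS.wo hS.ww1 hS.aw hS.aw1 (hS.good_all h7 hr) (hS.good_all h7 hs)

/-- **Strong rows of the Monster from the model.** -/
theorem srow_of_model_m {p : ℕ} (hp : p.Prime) (hp2 : p ≠ 2)
    (hm : ∀ r s : ↥InstData.M.G, orderOf r = p → orderOf s = p → SPair p (⊤ : Subgroup ↥InstData.M.G) r s)
    {K : Type*} [Group K] [Finite K] [IsSimpleGroup K] (h : Spor.IsoM K) : SRow p K := by
  have hinn := BpSpor.Inn.m h
  obtain ⟨e⟩ := h
  obtain ⟨f⟩ := MonsterP.Equiv.equiv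
  have hna : ¬ IsMulCommutative K := na_of_card (by
    rw [Nat.card_congr (e.trans f).toEquiv, MonsterP.EquivOf.isM_model.2]
    norm_num)
  refine SRow.of_inner hna (fun a ha => ?_) (fun x y hx hy => ?_)
  · obtain ⟨g, rfl⟩ := hinn p hp hp2 a ha
    exact ⟨g, rfl⟩
  · have h1 : orderOf (e.trans f x) = p := by rw [MulEquiv.orderOf_eq, hx]
    have h2 : orderOf (e.trans f y) = p := by rw [MulEquiv.orderOf_eq, hy]
    refine SPair.of_hom hp (e.trans f).toMonoidHom ?_ (hm _ _ h1 h2)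
    intro w _
    exact ⟨(e.trans f).symm w, mem_top _, (e.trans f).apply_symm_apply w⟩

/-- **The strong row of the Monster, `p = 7`.** -/
theorem srow_m_seven {K : Type*} [Group K] [Finite K] [IsSimpleGroup K] (h : Spor.IsoM K) : SRow 7 K :=
  srow_of_model_m (by norm_num) (by norm_num) (fun _ _ hr hs => spair_seven_model hr hs) h

end Cfsg.Agent.H199.S5
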