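import Cfsg.Agent.H609.T5.MMidFive
import Cfsg.Agent.H199.S5.MonSeven

/-!
# The strong rows of `J2` and of the Monster, `p = 5` (for S2274)
-/

set_option autoImplicit false
set_option maxRecDepth 100000

namespace Cfsg.Agent.H199.S5

open Subgroup Cfsg Cfsg.Agent.H533.T5 Cfsg.Agent.H132.S5 Cfsg.Agent.H609.T5

section al

variable {G : Type*} [Group G] {A : Type*} [Group A] {x : G} {ρ : ↥(centralizer ({x} : Set G)) →* A}

/-- **Strong pairs from the section `C(x) → A`.** -/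
theorem al_spair {p : ℕ} (hp : p.Prime) (hρ : Function.Surjective ρ)
    (hA : ∀ a b : A, orderOf a = p → orderOf b = p → SPair p (⊤ : Subgroup A) a b)
    {r s : G} (hr : Al x ρ r) (hs : Al x ρ s) (hrp : orderOf r = p) (hsp : orderOf s = p) :
    SPair p (⊤ : Subgroup G) r s := by
  obtain ⟨g, hg, hgr⟩ := hr
  obtain ⟨k, hk, hks⟩ := hs
  have ho : ∀ {t : G} (c : G) (hc : c * t * c⁻¹ ∈ centralizer ({x} : Set G)), orderOf t = p →
      ρ ⟨c * t * c⁻¹, hc⟩ ≠ 1 → orderOf (ρ ⟨c * t * c⁻¹, hc⟩) = p := by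
    intro t c hc ht h1
    have h2 : (⟨c * t * c⁻¹, hc⟩ : ↥(centralizer ({x} : Set G))) ^ p = 1 := by
      apply Subtype.ext
      show (c * t * c⁻¹) ^ p = 1
      rw [conj_pow, ← ht, pow_orderOf_eq_one]
      group
    have : Fact p.Prime := ⟨hp⟩
    exact orderOf_eq_prime (by rw [← map_pow, h2, map_one]) h1
  refine SPair.conj_left (mem_top g) (SPair.conj_right (mem_top k) ?_)
  refine SPair.of_section hp (M := centralizer ({x} : Set G)) (S := ⊤) (T := ⊤)
    (c := ⟨g * r * g⁻¹, hg⟩) (d := ⟨k * s * k⁻¹, hk⟩) ρ ?_ (hA _ _ (ho g hg hrp hgr) (ho k hk hsp hks))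
  intro a _
  obtain ⟨d, rfl⟩ := hρ a
  exact ⟨d, mem_subgroupOf.2 (mem_top _), rfl⟩

end al

/-- **The pairs of elements of order 5 of `J2`.** -/
theorem spair_j2 {G : Type*} [Group G] [Finite G] (h : Spor.IsoJ2 G) {x y : G} (hx : orderOf x = 5)
    (hy : orderOf y = 5) : SPair 5 (⊤ : Subgroup G) x y := by
  obtain ⟨w, ρ, hρ, hal⟩ := JTwo.exists_al h
  exact al_spair Nat.prime_five hρ (fun a b ha hb => 
    H201.T5Alt.spair_alt Nat.prime_five le_rfl a b ha hb) (hal x hx) (hal y hy) hx hy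

/-- **The strong row of `J2`, `p = 5`.** -/
theorem srow_j2 {K : Type*} [Group K] [Finite K] [IsSimpleGroup K] (h : Spor.IsoJ2 K) : SRow 5 K := by
  have hinn := BpSpor.Inn.j2 h
  have hna : ¬ IsMulCommutative K := na_of_card (by
    rw [H847.JTwoOdd.card_of h]
    norm_num)
  refine SRow.of_inner hna (fun a ha => ?_) (fun x y hx hy => spair_j2 h hx hy)
  obtain ⟨g, rfl⟩ := hinn 5 Nat.prime_five (by norm_num) a ha
  exact ⟨g, rfl⟩

namespace Five

open Cfsg.Agent.MonsterU Cfsg.Agent.MFive Cfsg.Agent.BpTab Cfsg.Agent.BpSpor.M5 Cfsg.Agent.H847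
open Cfsg.Agent.LThreeMB (fr XX Zx zD self toXX toCC be exists_XX_equiv)
open Cfsg.Agent.MonsterU.Ch
open Cfsg.Agent.MonsterU.Lam2 (L2)
open Cfsg.Spor (Co1)
open Cfsg.Agent.H609.T5.Five

universe u

/-- **The strong pairs of elements of order 5.** -/
theorem spair {G : Type u} [Group G] {Q : Subgroup G} {z : G} {eta : G → L2}
    {pi : Subgroup.centralizer ({z} : Set G) →* Co1} [Finite G] (H : Inp Q z eta pi) {r s : G}
    (hr : orderOf r = 5) (hs : orderOf s = 5) : SPair 5 (⊤ : Subgroup G) r s := by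
  obtain ⟨P, x, a, b, c, u, L⟩ := exists_lifts H.h
  obtain ⟨f1, f2, f3, ⟨N, ρ, S, hR⟩, hcon⟩ := exists_local H L.ox L.fx
  have hfA : Finite (XX (pi x)) := Finite.of_surjective ρ hR.surj
  exact al_spair Nat.prime_five hR.surj (fun a b ha hb => spair_j2 hR.iso ha hb) (al_all H L hR hcon hr)
    (al_all H L hR hcon hs) hr hs

end Five

open Cfsg.Agent.MonsterU Cfsg.Agent.MonsterX Cfsg.Agent.MonsterX.Model Cfsg.Agent.MonsterX.MainPack
  Cfsg.Agent.MonsterX.MainSimple Cfsg.Agent.MonsterX.MainBasic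
open Cfsg.Agent.MonsterU.Assembly Cfsg.Agent.MonsterP
open Cfsg.Agent.LThreeMB (KChart.chart)

/-- the pairs of elements of order 5 of the model -/
theorem spair_five_model {r s : ↥InstData.M.G} (hr : orderOf r = 5) (hs : orderOf s = 5) :
    SPair 5 (⊤ : Subgroup ↥InstData.M.G) r s := by
  have hfin := MFive.Row.finite_model
  exact Five.spair ⟨KChart.chart KDone.lft MFive.Row.hc, BpSpor.M5.trNe,
    CpAutBFive.Closed.coFive H546.MFiveFull.hJ, H546.MFiveFull.hJ, CpAutBFive.Closed.hnEight, BpSpor.M5.hasPair,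
    BpSpor.M5.exists_k BpSpor.M5.hA, H546.MFiveFull.card_model, fun r hr => CpAutBFive.EvenRow.cases hr⟩ hr hs

/-- **The strong row of the Monster, `p = 5`.** -/
theorem srow_m_five {K : Type*} [Group K] [Finite K] [IsSimpleGroup K] (h : Spor.IsoM K) : SRow 5 K :=
  srow_of_model_m Nat.prime_five (by norm_num) (fun _ _ hr hs => spair_five_model hr hs) h

end Cfsg.Agent.H199.S5
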