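import Cfsg.Agent.H609.Inv.MThirC
import Cfsg.Agent.H199.S5.MonSeven

/-!
# The strong row of the Monster, `p = 13` (for S2274)

`R` a Sylow 13-subgroup, `x ∈ Z(R)`, `v ∈ R` a conjugate of `x` outside `⟨x⟩`; up to conjugation the elements of order 13
are transvections of `⟨x, v⟩` with centre `x`, and with centre `v`.
-/

set_option autoImplicit false
set_option maxRecDepth 100000
set_option linter.unusedSectionVars false

namespace Cfsg.Agent.H199.S5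

open Subgroup Cfsg Cfsg.Agent.H533.T5 Cfsg.Agent.H132.S5
open Cfsg.Agent.H131.T5Cube (Cu)
open Cfsg.Agent.H131.T5M13 (D TB zp exists_conj_le orderOf_conj')
open Cfsg.Agent.H609.Inv.Thirteen (RW exists_inv13 zpow_eq_of_dvd)

section

universe u

variable {G : Type u} [Group G] [Finite G] {x z t : G} {Q R W : Subgroup G}

/-- **`Q` moves every line.** -/
theorem exists_move (h : D x z t Q) (hr : RW x Q R W) (hcu : Cu 13 R x) {y r : G} (hyR : y ∈ R)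
    (hyn : y ∉ zpowers x) (hyo : orderOf y = 13) (hrR : r ∈ R) (hrn : r ∉ zpowers x) :
    ∃ q ∈ Q, r * (q * y * q⁻¹) ≠ (q * y * q⁻¹) * r := by
  have hp : Fact (Nat.Prime 13) := ⟨by norm_num⟩
  by_contra hex
  push Not at hex
  -- the line `E = C_R(r)`
  have hE := hcu.cent_mem hrR hrn
  have hmem : ∀ q ∈ Q, q * y * q⁻¹ ∈ R ⊓ centralizer ({r} : Set G) := fun q hq =>
    mem_inf.2 ⟨hr.qr q hq y hyR, mem_centralizer_singleton_iff.2 (hex q hq).symm⟩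
  have hx1E : y ∈ R ⊓ centralizer ({r} : Set G) := by
    have := hmem 1 (one_mem Q)
    rwa [one_mul, inv_one, mul_one] at this
  have hact : ∀ q ∈ Q, ∃ i : ℤ, ∃ c ∈ zpowers x, q * y * q⁻¹ = y ^ i * c := fun q hq =>
    Cfsg.Agent.H131.T5M13.exists_pow hcu hE hx1E hyn (hmem q hq)
  have hqc : ∀ q ∈ Q, ∀ c ∈ zpowers x, q * c * q⁻¹ = c := by
    intro q hq c hc
    obtain ⟨i, rfl⟩ := mem_zpowers_iff.1 hc
    rw [((show Commute q x from h.hyp.qx q hq).zpow_right i).eq]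
    group
  have hcm : ∀ c ∈ zpowers x, ∀ s ∈ R, s * c = c * s := fun c hc s hs => hcu.comm_z hc hs
  obtain ⟨k, hk, l, hl, hkl⟩ := h.hyp.nc
  obtain ⟨a, c, hc, hak⟩ := hact k hk
  obtain ⟨b, d, hd, hbl⟩ := hact l hl
  -- `k l` and `l k`
  have hpow : ∀ (c : G), c ∈ zpowers x → ∀ n : ℤ, (y ^ n) * c = c * y ^ n := fun c hc n =>
    hcm c hc _ (zpow_mem hyR n)
  have h1 : ∃ c' ∈ zpowers x, (k * l) * y * (k * l)⁻¹ = y ^ (a * b) * c' := by
    refine ⟨c ^ b * d, mul_mem (zpow_mem hc b) hd, ?_⟩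
    have e : Commute (y ^ a) c := hpow c hc a
    calc (k * l) * y * (k * l)⁻¹ = k * (l * y * l⁻¹) * k⁻¹ := by group
      _ = k * (y ^ b * d) * k⁻¹ := by rw [hbl]
      _ = (k * y * k⁻¹) ^ b * (k * d * k⁻¹) := by rw [conj_zpow]; group
      _ = (y ^ a * c) ^ b * d := by rw [hak, hqc k hk d hd]
      _ = y ^ (a * b) * (c ^ b * d) := by rw [e.mul_zpow, ← zpow_mul, mul_assoc]
  have h2 : ∃ c' ∈ zpowers x, (l * k) * y * (l * k)⁻¹ = y ^ (a * b) * c' := by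
    refine ⟨d ^ a * c, mul_mem (zpow_mem hd a) hc, ?_⟩
    have e : Commute (y ^ b) d := hpow d hd b
    calc (l * k) * y * (l * k)⁻¹ = l * (k * y * k⁻¹) * l⁻¹ := by group
      _ = l * (y ^ a * c) * l⁻¹ := by rw [hak]
      _ = (l * y * l⁻¹) ^ a * (l * c * l⁻¹) := by rw [conj_zpow]; group
      _ = (y ^ b * d) ^ a * c := by rw [hbl, hqc l hl c hc]
      _ = y ^ (a * b) * (d ^ a * c) := by rw [e.mul_zpow, ← zpow_mul, mul_assoc, mul_comm b a]
  obtain ⟨c1, hc1, e1⟩ := h1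
  obtain ⟨c2, hc2, e2⟩ := h2
  -- the commutator
  have hwQ : k * l * k⁻¹ * l⁻¹ ∈ Q := mul_mem (mul_mem (mul_mem hk hl) (inv_mem hk)) (inv_mem hl)
  have hw1 : k * l * k⁻¹ * l⁻¹ ≠ 1 := by
    intro h1
    apply hkl
    rw [mul_inv_eq_one, mul_inv_eq_iff_eq_mul] at h1
    exact h1
  obtain ⟨m, hm⟩ := h.hyp.q2 ⟨_, hwQ⟩
  obtain ⟨n, hn⟩ := Cfsg.Agent.H794.MonCore.exists_pow_eq h.hyp.only (h.hyp.qx _ hwQ) (h.hyp.qz _ hwQ) hw1
    (congrArg Subtype.val hm)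
  obtain ⟨w, hw⟩ : ∃ w, w = k * l * k⁻¹ * l⁻¹ := ⟨_, rfl⟩
  rw [← hw] at hwQ hn
  -- `w y ^ (a b) w⁻¹ ∈ y ^ (a b) ⟨x⟩`
  have e3 : w * y ^ (a * b) * w⁻¹ = y ^ (a * b) * (c1 * c2⁻¹) := by
    have e4 : y ^ (a * b) = (l * k) * y * (l * k)⁻¹ * c2⁻¹ := by rw [e2]; group
    calc w * y ^ (a * b) * w⁻¹ = w * ((l * k) * y * (l * k)⁻¹ * c2⁻¹) * w⁻¹ := by rw [← e4]
      _ = (w * (l * k)) * y * (w * (l * k))⁻¹ * (w * c2 * w⁻¹)⁻¹ := by group
      _ = (k * l) * y * (k * l)⁻¹ * c2⁻¹ := by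
        rw [hqc w hwQ c2 hc2]
        have : w * (l * k) = k * l := by rw [hw]; group
        rw [this]
      _ = _ := by rw [e1]; group
  have hab : ¬ (13 : ℤ) ∣ a * b := by
    intro hdv
    have e5 : y ^ (a * b) = 1 := by
      rw [← orderOf_dvd_iff_zpow_eq_one, hyo]
      exact_mod_cast hdv
    rw [e5, one_mul] at e1
    apply hyn
    have e6 : y = (k * l)⁻¹ * c1 * (k * l)⁻¹⁻¹ := by rw [← e1]; group
    rw [e6, hqc _ (Q.inv_mem (mul_mem hk hl)) c1 hc1]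
    exact hc1
  obtain ⟨f, hf⟩ := exists_inv13 hab
  have e7 : ∃ c3 ∈ zpowers x, w * y * w⁻¹ = y * c3 := by
    refine ⟨(c1 * c2⁻¹) ^ f, zpow_mem (mul_mem hc1 (inv_mem hc2)) f, ?_⟩
    have e8 : (y ^ (a * b)) ^ f = y := by
      rw [← zpow_mul, zpow_eq_of_dvd hyo hf, zpow_one]
    have e9 : Commute (y ^ (a * b)) (c1 * c2⁻¹) := hpow _ (mul_mem hc1 (inv_mem hc2)) _
    calc w * y * w⁻¹ = w * (y ^ (a * b)) ^ f * w⁻¹ := by rw [e8]
      _ = (w * y ^ (a * b) * w⁻¹) ^ f := by rw [conj_zpow]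
      _ = (y ^ (a * b) * (c1 * c2⁻¹)) ^ f := by rw [e3]
      _ = y * (c1 * c2⁻¹) ^ f := by rw [e9.mul_zpow, e8]
  obtain ⟨c3, hc3, e10⟩ := e7
  have e11 : ∀ n : ℕ, w ^ n * y * (w ^ n)⁻¹ = y * c3 ^ n := by
    intro n
    induction n with
    | zero => simp
    | succ n ih =>
      calc w ^ (n + 1) * y * (w ^ (n + 1))⁻¹ = w ^ n * (w * y * w⁻¹) * (w ^ n)⁻¹ := by rw [pow_succ]; group
        _ = w ^ n * (y * c3) * (w ^ n)⁻¹ := by rw [e10]
        _ = (w ^ n * y * (w ^ n)⁻¹) * (w ^ n * c3 * (w ^ n)⁻¹) := by group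
        _ = y * c3 ^ n * c3 := by rw [ih, hqc _ (pow_mem hwQ n) c3 hc3]
        _ = y * c3 ^ (n + 1) := by rw [pow_succ, mul_assoc]
  have e12 := e11 n
  rw [hn] at e12
  obtain ⟨j, hj⟩ := hr.inv_z h hcu hyR
  rw [hj] at e12
  -- `y ^ 2 ∈ ⟨x⟩`
  have e13 : y ^ (2 : ℤ) ∈ zpowers x := by
    have e14 : y ^ (2 : ℤ) = x ^ j * (c3 ^ n)⁻¹ := by
      have e15 : Commute (y) (x ^ j) := hcm _ (zpow_mem_zpowers x j) _ hyR
      calc y ^ (2 : ℤ) = y * (y * c3 ^ n) * (c3 ^ n)⁻¹ := by rw [mul_assoc y, mul_inv_cancel_right, zpow_two]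
        _ = y * (y⁻¹ * x ^ j) * (c3 ^ n)⁻¹ := by rw [← e12]
        _ = x ^ j * (c3 ^ n)⁻¹ := by group
    rw [e14]
    exact mul_mem (zpow_mem_zpowers x j) (inv_mem (pow_mem hc3 n))
  apply hyn
  have e16 : y = (y ^ (2 : ℤ)) ^ (7 : ℤ) := by
    rw [← zpow_mul, zpow_eq_of_dvd hyo (a := 2 * 7) (b := 1) (by norm_num), zpow_one]
  rw [e16]
  exact zpow_mem e13 7

/-- a conjugate of `x` in `R ∖ ⟨x⟩`, such that the conjugate of `R` contains `x` -/
theorem exists_v (h : D x z t Q) (hr : RW x Q R W) :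
    ∃ g : G, g * x * g⁻¹ ∈ R ∧ g * x * g⁻¹ ∉ zpowers x ∧ g⁻¹ * x * g ∈ R ∧ g⁻¹ * x * g ∉ zpowers x := by
  obtain ⟨x1, hx1R, hx1n, hb⟩ := hr.exists_x1 h
  have hx11 : x1 ≠ 1 := by rintro rfl; exact hx1n (one_mem _)
  have ho1 := hr.ord_of_tb h hx1R hx11 hb
  obtain ⟨k, hk⟩ := h.tb_pow ho1 hb
  obtain ⟨g, hg⟩ := isConj_iff.1 hk
  have hk13 : ¬ (13 : ℤ) ∣ k := by
    intro hd
    have h1 : x ^ k = 1 := by
      rw [← orderOf_dvd_iff_pow_eq_one, h.hyp.hx]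
      exact_mod_cast hd
    rw [h1] at hg
    apply hx11
    calc x1 = g⁻¹ * (g * x1 * g⁻¹) * g := by group
      _ = 1 := by rw [hg]; group
  obtain ⟨k', hk'⟩ := exists_inv13 hk13
  -- `x = g x₁ ^ k' g⁻¹`
  have hxg : x = g * x1 ^ k' * g⁻¹ := by
    rw [← conj_zpow, hg, ← zpow_natCast, ← zpow_mul]
    have := zpow_eq_of_dvd h.hyp.hx (a := k * k') (b := 1) hk'
    rw [this, zpow_one]
  -- `v = x₁ ^ k'`
  obtain ⟨v, hv⟩ : ∃ v, v = x1 ^ k' := ⟨_, rfl⟩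
  have hvg : v = g⁻¹ * x * g := by
    rw [hv]
    calc x1 ^ k' = g⁻¹ * (g * x1 ^ k' * g⁻¹) * g := by group
      _ = g⁻¹ * x * g := by rw [← hxg]
  have hvR : v ∈ R := by rw [hv]; exact zpow_mem hx1R _
  have hvn : v ∉ zpowers x := by
    intro h1
    apply hx1n
    have e : x1 = v ^ (k : ℤ) := by
      rw [hv, ← zpow_mul, mul_comm, zpow_eq_of_dvd ho1 hk', zpow_one]
    rw [e]
    exact zpow_mem h1 _
  -- `y = g x g⁻¹` commutes with `x`
  have hvx : v * x = x * v := hr.cen v hvR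
  have hyx : (g * x * g⁻¹) * x = x * (g * x * g⁻¹) := by
    have e : x = g * v * g⁻¹ := by rw [hvg]; group
    calc (g * x * g⁻¹) * x = (g * x * g⁻¹) * (g * v * g⁻¹) := by rw [← e]
      _ = g * (x * v) * g⁻¹ := by group
      _ = g * (v * x) * g⁻¹ := by rw [hvx]
      _ = (g * v * g⁻¹) * (g * x * g⁻¹) := by group
      _ = x * (g * x * g⁻¹) := by rw [← e]
  obtain ⟨c, hcx, hcR⟩ := hr.conj_in h hyx (by rw [orderOf_conj', h.hyp.hx])
  have hcx' : Commute c x := hcx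
  refine ⟨c * g, ?_, ?_, ?_, ?_⟩
  · have e : c * g * x * (c * g)⁻¹ = c * (g * x * g⁻¹) * c⁻¹ := by group
    rw [e]; exact hcR
  · intro h1
    -- `x ∈ ⟨v⟩`
    obtain ⟨i, hi⟩ := mem_zpowers_iff.1 h1
    have e : x = (c * g)⁻¹ * x ^ i * (c * g) := by rw [hi]; group
    have e2 : (c * g)⁻¹ * x * (c * g) = v := by
      calc (c * g)⁻¹ * x * (c * g) = g⁻¹ * (c⁻¹ * x * c) * g := by group
        _ = g⁻¹ * x * g := by
          have : c⁻¹ * x * c = x := by rw [mul_assoc, ← hcx]; group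
          rw [this]
        _ = v := hvg.symm
    have e3 : x = v ^ i := by
      rw [← e2]
      calc x = (c * g)⁻¹ * x ^ i * ((c * g)⁻¹)⁻¹ := by rw [inv_inv]; exact e
        _ = ((c * g)⁻¹ * x * ((c * g)⁻¹)⁻¹) ^ i := by rw [conj_zpow]
        _ = _ := by rw [inv_inv]
    have hov : orderOf v = 13 := by
      rw [hvg]
      have := orderOf_conj' g⁻¹ x
      rw [inv_inv] at this
      rw [this, h.hyp.hx]
    have hi13 : ¬ (13 : ℤ) ∣ i := by
      intro hd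
      have h5 : v ^ i = 1 := by
        rw [← orderOf_dvd_iff_zpow_eq_one, hov]
        exact_mod_cast hd
      rw [h5] at e3
      have h6 := h.hyp.hx
      rw [e3, orderOf_one] at h6
      exact absurd h6 (by norm_num)
    obtain ⟨f, hf⟩ := exists_inv13 hi13
    apply hvn
    refine mem_zpowers_iff.2 ⟨f, ?_⟩
    rw [e3, ← zpow_mul, zpow_eq_of_dvd hov hf, zpow_one]
  · have e : (c * g)⁻¹ * x * (c * g) = g⁻¹ * x * g := by
      calc (c * g)⁻¹ * x * (c * g) = g⁻¹ * (c⁻¹ * x * c) * g := by group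
        _ = g⁻¹ * x * g := by
          have : c⁻¹ * x * c = x := by rw [mul_assoc, ← hcx]; group
          rw [this]
    rw [e, ← hvg]; exact hvR
  · have e : (c * g)⁻¹ * x * (c * g) = g⁻¹ * x * g := by
      calc (c * g)⁻¹ * x * (c * g) = g⁻¹ * (c⁻¹ * x * c) * g := by group
        _ = g⁻¹ * x * g := by
          have : c⁻¹ * x * c = x := by rw [mul_assoc, ← hcx]; group
          rw [this]
    rw [e, ← hvg]; exact hvn

/-- every element of order 13 has a conjugate in `R` not commuting with `y` -/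
theorem exists_tr (h : D x z t Q) (hr : RW x Q R W) (hcu : Cu 13 R x) {y : G} (hyR : y ∈ R)
    (hyn : y ∉ zpowers x) (hyo : orderOf y = 13) {c : G} (hc : orderOf c = 13) :
    ∃ k : G, k * c * k⁻¹ ∈ R ∧ (k * c * k⁻¹) * y ≠ y * (k * c * k⁻¹) := by
  have hp : Fact (Nat.Prime 13) := ⟨by norm_num⟩
  -- a conjugate in `R ∖ ⟨x⟩`
  have key : ∃ k : G, k * c * k⁻¹ ∈ R ∧ k * c * k⁻¹ ∉ zpowers x := by
    obtain ⟨g, hg⟩ := exists_conj_le hr.card h.hyp.h4 (zp hc)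
    have hgR := hg c (mem_zpowers c)
    by_cases hx : g * c * g⁻¹ ∈ zpowers x
    · obtain ⟨i, hi⟩ := mem_zpowers_iff.1 hx
      obtain ⟨v, hv1, hv2, -, -⟩ := exists_v h hr
      have e : v * g * c * (v * g)⁻¹ = (v * x * v⁻¹) ^ i := by
        rw [conj_zpow, hi]; group
      refine ⟨v * g, ?_, ?_⟩
      · rw [e]; exact zpow_mem hv1 i
      · rw [e]
        intro h1
        apply hv2
        have hov : orderOf (v * x * v⁻¹) = 13 := by rw [orderOf_conj', h.hyp.hx]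
        have hi13 : ¬ (13 : ℤ) ∣ i := by
          intro hd
          have h5 : x ^ i = 1 := by
            rw [← orderOf_dvd_iff_zpow_eq_one, h.hyp.hx]
            exact_mod_cast hd
          rw [h5] at hi
          have h6 : orderOf (g * c * g⁻¹) = 13 := by rw [orderOf_conj', hc]
          rw [← hi, orderOf_one] at h6
          exact absurd h6 (by norm_num)
        obtain ⟨f, hf⟩ := exists_inv13 hi13
        have e16 : v * x * v⁻¹ = ((v * x * v⁻¹) ^ i) ^ f := by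
          rw [← zpow_mul, zpow_eq_of_dvd hov hf, zpow_one]
        rw [e16]
        exact zpow_mem h1 f
    · exact ⟨g, hgR, hx⟩
  obtain ⟨k, hkR, hkn⟩ := key
  obtain ⟨q, hq, hne⟩ := exists_move h hr hcu hyR hyn hyo hkR hkn
  refine ⟨q⁻¹ * k, ?_, ?_⟩
  · have e : q⁻¹ * k * c * (q⁻¹ * k)⁻¹ = q⁻¹ * (k * c * k⁻¹) * q⁻¹⁻¹ := by group
    rw [e]; exact hr.qr q⁻¹ (Q.inv_mem hq) _ hkR
  · intro heq
    apply hne
    have e : q⁻¹ * k * c * (q⁻¹ * k)⁻¹ = q⁻¹ * (k * c * k⁻¹) * q := by group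
    rw [e] at heq
    calc k * c * k⁻¹ * (q * y * q⁻¹) = q * ((q⁻¹ * (k * c * k⁻¹) * q) * y) * q⁻¹ := by group
      _ = q * (y * (q⁻¹ * (k * c * k⁻¹) * q)) * q⁻¹ := by rw [heq]
      _ = _ := by group

/-- the transvection -/
theorem exists_m (hcu : Cu 13 R x) {X y : G} (hX : X ∈ R) (hy : y ∈ R) (hne : X * y ≠ y * X) :
    ∃ m : ℤ, ¬ (13 : ℤ) ∣ m ∧ X * y * X⁻¹ = y * x ^ m := by
  have hp : Fact (Nat.Prime 13) := ⟨by norm_num⟩
  obtain ⟨m, hm⟩ := mem_zpowers_iff.1 (hcu.comm_mem hX hy)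
  have hX1 : X * y * X⁻¹ = y * x ^ m := by rw [hm]; group
  refine ⟨m, ?_, hX1⟩
  intro hd
  apply hne
  have h1 : x ^ m = 1 := by
    rw [← orderOf_dvd_iff_zpow_eq_one, hcu.ord]
    exact_mod_cast hd
  rw [h1, mul_one] at hX1
  exact mul_inv_eq_iff_eq_mul.1 hX1

/-- **All pairs of elements of order 13.** -/
theorem spair_of_D (h : D x z t Q) {c d : G} (hc : orderOf c = 13) (hd : orderOf d = 13) :
    SPair 13 (⊤ : Subgroup G) c d := by
  have hp : Fact (Nat.Prime 13) := ⟨by norm_num⟩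
  obtain ⟨R, W, hr⟩ := H609.Inv.Thirteen.exists_RW h
  have hcu : Cu 13 R x := by
    refine ⟨hr.card, h.hyp.hx, hr.mem, hr.cen, ?_⟩
    by_contra hab
    push Not at hab
    exact H609.Inv.Thirteen.Ab.false h ⟨hr, hab⟩
  obtain ⟨g, hvR, hvn, hyR, hyn⟩ := exists_v h hr
  have hvo : orderOf (g * x * g⁻¹) = 13 := by rw [orderOf_conj', h.hyp.hx]
  have hyo : orderOf (g⁻¹ * x * g) = 13 := by
    have := orderOf_conj' g⁻¹ x
    rw [inv_inv] at this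
    rw [this, h.hyp.hx]
  obtain ⟨k, hkR, hkn⟩ := exists_tr h hr hcu hvR hvn hvo hc
  obtain ⟨l, hlR, hln⟩ := exists_tr h hr hcu hyR hyn hyo hd
  refine SPair.conj_left (mem_top k) (SPair.conj_right (mem_top (g * l)) ?_)
  have e : g * l * d * (g * l)⁻¹ = g * (l * d * l⁻¹) * g⁻¹ := by group
  rw [e]
  generalize k * c * k⁻¹ = X at hkR hkn
  generalize l * d * l⁻¹ = Y at hlR hln
  obtain ⟨m, hm, hXm⟩ := exists_m hcu hkR hvR hkn
  obtain ⟨n, hn, hYn⟩ := exists_m hcu hlR hyR hln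
  have hx13 : x ^ 13 = 1 := by rw [← h.hyp.hx, pow_orderOf_eq_one]
  have hv13 : (g * x * g⁻¹) ^ 13 = 1 := by rw [← hvo, pow_orderOf_eq_one]
  refine (⟨h.hyp.hx, hv13, (hcu.cen _ hvR).symm, ?_, ?_, hcu.cen _ hkR, ?_, ?_, ?_⟩ :
    Opp 13 x (g * x * g⁻¹) X (g * Y * g⁻¹) (m : ZMod 13) (n : ZMod 13)).spair (by norm_num)
  · intro h
    exact hm (by exact_mod_cast (ZMod.intCast_zmod_eq_zero_iff_dvd m 13).1 h)
  · intro h
    exact hn (by exact_mod_cast (ZMod.intCast_zmod_eq_zero_iff_dvd n 13).1 h)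
  · rw [pw_intCast hx13]; exact hXm
  · have h1 := hcu.cen _ hlR
    calc g * Y * g⁻¹ * (g * x * g⁻¹) = g * (Y * x) * g⁻¹ := by group
      _ = g * (x * Y) * g⁻¹ := by rw [h1]
      _ = g * x * g⁻¹ * (g * Y * g⁻¹) := by group
  · rw [pw_intCast hv13, conj_zpow]
    calc g * Y * g⁻¹ * x * (g * Y * g⁻¹)⁻¹ = g * (Y * (g⁻¹ * x * g) * Y⁻¹) * g⁻¹ := by group
      _ = g * (g⁻¹ * x * g * x ^ n) * g⁻¹ := by rw [hYn]
      _ = x * (g * x ^ n * g⁻¹) := by group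

end

open Cfsg.Agent.MonsterX in
/-- **The strong row of the Monster, `p = 13`.** -/
theorem srow_m_thirteen {K : Type*} [Group K] [Finite K] [IsSimpleGroup K] (h : Spor.IsoM K) : SRow 13 K := by
  refine srow_of_model_m (by norm_num) (by norm_num) (fun r s hr hs => ?_) h
  have hfin := MFive.Row.finite_model
  obtain ⟨x, z, t, Q, hD⟩ := Cfsg.Agent.H131.T5M13.model_D
  exact spair_of_D hD hr hs

end Cfsg.Agent.H199.S5
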